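import Cfsg.Agent.Lib.Helper36.Gen2.Tools

set_option autoImplicit false

/-! # Two-generation of the Chevalley group of type E7 (generated certificate) -/

namespace Cfsg.Agent.Lib.Helper36.Gen2

open Cfsg Cfsg.Lie

universe u

/-- the Coxeter word of `chevE7` -/
def e7Word : List (Fin chevE7.rank) := ([0, 1, 2, 3, 4, 5, 6] : List (Fin 7))

/-- the certificate for `chevE7` -/
def e7Cert : List (ℕ × ℕ × ℕ × ℕ) :=
  [(0, 100, 57, 0), (1, 100, 0, 0), (2, 110, 100, 0), (2, 120, 110, 0), (2, 115, 120, 0),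
   (2, 122, 115, 0), (2, 117, 122, 0), (3, 125, 100, 117), (2, 91, 117, 0), (3, 124, 91, 110),
   (2, 71, 91, 0), (3, 106, 71, 100), (3, 123, 71, 120), (2, 68, 71, 0), (3, 114, 68, 110),
   (3, 118, 68, 115), (2, 25, 68, 0), (3, 89, 25, 120), (3, 92, 25, 122), (2, 15, 25, 0),
   (3, 70, 15, 115), (3, 72, 15, 117), (3, 107, 15, 125), (2, 5, 15, 0), (3, 26, 5, 91),
   (3, 36, 5, 100), (3, 42, 5, 107), (3, 67, 5, 122), (3, 76, 5, 124), (3, 97, 5, 125),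
   (3, 66, 26, 100), (3, 112, 36, 124), (2, 10, 5, 0), (3, 16, 10, 71), (3, 22, 10, 76),
   (3, 38, 10, 97), (3, 51, 10, 106), (3, 55, 10, 110), (3, 56, 10, 112), (3, 65, 10, 117),
   (3, 82, 10, 123), (3, 86, 10, 124), (3, 102, 10, 125), (3, 64, 16, 110), (3, 108, 16, 125),
   (3, 101, 51, 110), (3, 121, 55, 123), (2, 3, 10, 0), (3, 1, 3, 51), (3, 2, 3, 56),
   (3, 4, 3, 66), (3, 6, 3, 68), (3, 13, 3, 82), (3, 19, 3, 86), (3, 24, 3, 91), (3, 33, 3, 100),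
   (3, 34, 3, 101), (3, 35, 3, 102), (3, 39, 3, 106), (3, 40, 3, 107), (3, 41, 3, 108),
   (3, 43, 3, 112), (3, 45, 3, 114), (3, 47, 3, 118), (3, 58, 3, 120), (3, 59, 3, 121),
   (3, 69, 3, 123), (3, 74, 3, 124), (3, 95, 3, 125), (3, 21, 4, 86), (3, 37, 4, 102),
   (3, 46, 4, 114), (3, 61, 4, 120), (3, 75, 4, 124), (3, 96, 4, 125), (3, 63, 6, 120),
   (3, 77, 6, 124), (3, 98, 6, 125), (3, 49, 13, 100), (3, 50, 13, 101), (3, 52, 13, 106),
   (3, 105, 13, 125), (3, 44, 19, 96), (3, 54, 19, 100), (3, 73, 19, 112), (3, 111, 19, 125),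
   (3, 113, 21, 125), (3, 116, 24, 125), (3, 93, 33, 108), (3, 94, 33, 114), (3, 99, 33, 121),
   (3, 103, 33, 123), (3, 109, 33, 124), (3, 104, 34, 123), (2, 7, 2, 0), (3, 0, 7, 26),
   (3, 8, 7, 66), (3, 9, 7, 67), (3, 11, 7, 70), (3, 12, 7, 71), (3, 17, 7, 75), (3, 18, 7, 76),
   (3, 28, 7, 91), (3, 29, 7, 92), (3, 48, 7, 106), (3, 53, 7, 112), (3, 57, 7, 115),
   (3, 78, 7, 122), (3, 79, 7, 123), (3, 83, 7, 124), (3, 14, 8, 71), (3, 20, 8, 76),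
   (3, 30, 8, 92), (3, 60, 8, 115), (3, 80, 8, 123), (3, 84, 8, 124), (3, 62, 9, 115),
   (3, 81, 9, 123), (3, 85, 9, 124), (3, 23, 11, 76), (3, 27, 11, 85), (3, 31, 11, 92),
   (3, 87, 11, 124), (3, 88, 12, 124), (3, 90, 14, 124), (3, 32, 17, 92), (3, 119, 27, 125)]

set_option maxRecDepth 100000 in
theorem e7_run :
    (run chevE7 e7Word 0 e7Cert (2 ^ 57, 0)).2 = 2 ^ chevE7.nroots - 1 := by
  decide +kernel

theorem pkgE7 : PkgE7.{u} :=
  pkgAll_of_cert chevE7 (by simp) e7Word 0 57 e7Cert (by decide +kernel)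
    (by decide +kernel) (by decide +kernel) e7_run

end Cfsg.Agent.Lib.Helper36.Gen2
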